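import Cfsg.Agent.Lib.Helper1.SLK.Defs

/-!
# Project PLK (S2480): `q^(n-1) ≤ d k(PSL_n(q)) ≤ q^(n-1) + 5 q^(n-2)`, `d = gcd n (q-1)` — definitions

Built on SLK (S2479) and GLK (S2478).

* `czSmul`, `czAction S` : the centre of `S` acts on `ConjClasses S` (`z • [x] = [z x]`);
* `czFix z`     : the classes `C` with `z • C = C`;
* `nu x a`      : `dim ker a(x)`, computed on `gMod x`;
* `tw ζ P`      : the monic twist `ζ^(-deg P) P(ζ X)`;
* `tupTw F n m` : the tuples all of whose coefficients vanish off the multiples of `m`;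
* `tctr m T`    : `T_i(X) = H_i(X^m)  ↦  (H_j)_{j < n/m}`;
* `ubdN q K n`, `ubd F n` : the bound of SLK row M3 as a number.
-/

set_option autoImplicit false

namespace Cfsg.Agent.Lib.Helper1.PLK

open Polynomial
open Cfsg.Agent.Lib.Helper29.GLK
open Cfsg.Agent.Lib.Helper1.SLK

universe u

/-- `z • [x] = [z x]` for central `z` -/
def czSmul {S : Type*} [Group S] (z : Subgroup.center S) : ConjClasses S → ConjClasses S :=
  Quotient.map (fun x => (z : S) * x) (by
    rintro a b ⟨c, hc⟩
    refine ⟨c, ?_⟩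
    have hz : (z : S) * (c : S) = (c : S) * (z : S) :=
      (Subgroup.mem_center_iff.mp z.2 (c : S)).symm
    show (c : S) * ((z : S) * a) = (z : S) * b * (c : S)
    have hc' : (c : S) * a = b * (c : S) := hc
    calc (c : S) * ((z : S) * a) = ((c : S) * (z : S)) * a := (mul_assoc _ _ _).symm
      _ = ((z : S) * (c : S)) * a := by rw [hz]
      _ = (z : S) * ((c : S) * a) := mul_assoc _ _ _
      _ = (z : S) * (b * (c : S)) := by rw [hc']
      _ = (z : S) * b * (c : S) := (mul_assoc _ _ _).symm)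

theorem czSmul_mk {S : Type*} [Group S] (z : Subgroup.center S) (x : S) :
    czSmul z (ConjClasses.mk x) = ConjClasses.mk ((z : S) * x) := rfl

/-- the action of the centre on the conjugacy classes -/
@[reducible] def czAction (S : Type*) [Group S] : MulAction (Subgroup.center S) (ConjClasses S) where
  smul := czSmul
  one_smul C := by
    obtain ⟨x, rfl⟩ := ConjClasses.mk_surjective C
    show czSmul 1 (ConjClasses.mk x) = ConjClasses.mk x
    rw [czSmul_mk, Subgroup.coe_one, one_mul]
  mul_smul z w C := by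
    obtain ⟨x, rfl⟩ := ConjClasses.mk_surjective C
    show czSmul (z * w) (ConjClasses.mk x) = czSmul z (czSmul w (ConjClasses.mk x))
    rw [czSmul_mk, czSmul_mk, czSmul_mk, Subgroup.coe_mul, mul_assoc]

/-- the conjugacy classes fixed by the central element `z` -/
def czFix {S : Type*} [Group S] (z : S) : Set (ConjClasses S) :=
  {C | ∃ x, ConjClasses.mk x = C ∧ IsConj (z * x) x}

/-- `dim ker a(x)` -/
noncomputable def nu {F : Type u} [Field F] {n : ℕ} (x : Matrix.GeneralLinearGroup (Fin n) F)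
    (a : F[X]) : ℕ :=
  Module.finrank F (LinearMap.ker (sm a (gMod x)))

/-- the monic twist `ζ^(-deg P) P(ζ X)` -/
noncomputable def tw {F : Type u} [Field F] (ζ : Fˣ) (P : F[X]) : F[X] :=
  C (((ζ⁻¹ : Fˣ) : F) ^ P.natDegree) * P.comp (C (ζ : F) * X)

/-- the tuples all of whose coefficients vanish off the multiples of `m` -/
noncomputable def tupTw (F : Type u) [Field F] [Fintype F] (n m : ℕ) : Finset (Fin n → F[X]) :=
  @Finset.filter _ (fun T => ∀ (i : Fin n) (k : ℕ), ¬ m ∣ k → (T i).coeff k = 0)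
    (Classical.decPred _) (tupFin F n)

theorem mem_tupTw {F : Type u} [Field F] [Fintype F] {n m : ℕ} {T : Fin n → F[X]} :
    T ∈ tupTw F n m ↔
      T ∈ tupSet F n 1 n ∧ ∀ (i : Fin n) (k : ℕ), ¬ m ∣ k → (T i).coeff k = 0 := by
  unfold tupTw
  rw [@Finset.mem_filter _ _ (Classical.decPred _), mem_tupFin]

/-- `T_i(X) = H_i(X^m)  ↦  (H_j)_{j < n/m}` -/
noncomputable def tctr {F : Type u} [Field F] {n : ℕ} (m : ℕ) (T : Fin n → F[X]) :
    Fin (n / m) → F[X] :=
  fun j => contract m (T (Fin.castLE (Nat.div_le_self n m) j))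

/-- the bound of SLK row M3, as a number -/
def ubdN (q : ℕ) (K : ℕ → ℕ) (n : ℕ) : ℕ :=
  (K n + ∑ d ∈ (Nat.divisors (Nat.gcd n (q - 1))).filter (fun d => 1 < d),
    (d ^ 2 - 1) * K (n / d)) / (q - 1)

/-- the bound of SLK row M3 for the field `F` -/
noncomputable def ubd (F : Type u) [Field F] [Fintype F] (n : ℕ) : ℕ :=
  ubdN (Fintype.card F) (fun m => (tupFin F m).card) n

end Cfsg.Agent.Lib.Helper1.PLK
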